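import Mathlib
import Groth.Prelude.Def_Disc

/-!
Behaviour of the Noether different under flat base change and under open immersions of the source.
-/

set_option autoImplicit false
set_option linter.style.haveILetI false
set_option linter.unusedSectionVars false

universe u v w z

open TensorProduct

namespace Groth.Agent.DiffLib

/-- Annihilators of finitely generated ideals commute with flat extension. -/
theorem annihilator_map_of_flat {T : Type u} {T' : Type v} [CommRing T] [CommRing T'] [Algebra T T']
    [Module.Flat T T'] (I : Ideal T) (hI : I.FG) :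
    Submodule.annihilator (I.map (algebraMap T T')) =
      (Submodule.annihilator I).map (algebraMap T T') := by
  classical
  refine le_antisymm (fun x hx => ?_) ?_
  · obtain ⟨s, rfl⟩ := hI
    let φ : T →ₗ[T] (s → T) := LinearMap.pi fun i => LinearMap.mulLeft T (i : T)
    have hker : ∀ y ∈ LinearMap.ker φ, y ∈ Submodule.annihilator (Submodule.span T (s : Set T)) := by
      intro y hy
      rw [Submodule.annihilator_span, Submodule.mem_iInf]
      intro i
      have := congrFun hy i
      rw [LinearMap.mem_ker, LinearMap.toSpanSingleton_apply, smul_eq_mul, mul_comm]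
      exact this
    have h1 : (x ⊗ₜ[T] (1 : T)) ∈ LinearMap.ker (φ.lTensor T') := by
      rw [LinearMap.mem_ker]
      apply (TensorProduct.piRight T T T' (fun _ : s => T)).injective
      funext i
      have hi : algebraMap T T' (i : T) ∈ Ideal.map (algebraMap T T') (Submodule.span T (s : Set T)) :=
        Ideal.mem_map_of_mem _ (Submodule.subset_span i.2)
      have := Submodule.mem_annihilator.mp hx _ hi
      rw [smul_eq_mul, mul_comm] at this
      apply (TensorProduct.rid T T').injective
      simpa [φ, Algebra.smul_def] using this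
    have hex : Function.Exact ((LinearMap.ker φ).subtype.lTensor T') (φ.lTensor T') :=
      Module.Flat.lTensor_exact T' (LinearMap.exact_subtype_ker_map φ)
    obtain ⟨z, hz⟩ := (hex _).mp h1
    have key : ∀ z : T' ⊗[T] LinearMap.ker φ,
        TensorProduct.rid T T' ((LinearMap.ker φ).subtype.lTensor T' z) ∈
          (Submodule.annihilator (Submodule.span T (s : Set T))).map (algebraMap T T') := by
      intro z
      induction z using TensorProduct.induction_on with
      | zero => simp
      | tmul a y =>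
        simp only [LinearMap.lTensor_tmul, Submodule.subtype_apply, TensorProduct.rid_tmul]
        rw [Algebra.smul_def]
        exact Ideal.mul_mem_right _ _ (Ideal.mem_map_of_mem _ (hker _ y.2))
      | add a b ha hb =>
        rw [map_add, map_add]
        exact Ideal.add_mem _ ha hb
    have := key z
    rw [hz, TensorProduct.rid_tmul, one_smul] at this
    exact this
  · rw [Ideal.map_le_iff_le_comap]
    intro y hy
    rw [Ideal.mem_comap, Submodule.mem_annihilator]
    intro n hn
    have : (Submodule.span T' {algebraMap T T' y}) * I.map (algebraMap T T') = ⊥ := by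
      rw [Ideal.submodule_span_eq, ← Set.image_singleton, ← Ideal.map_span, ← Ideal.map_mul,
        Ideal.map_eq_bot_iff_le_ker]
      rw [Ideal.span_singleton_mul_le_iff]
      intro i hi
      rw [RingHom.mem_ker, ← smul_eq_mul, Submodule.mem_annihilator.mp hy i hi, map_zero]
    exact (Submodule.eq_bot_iff _).mp this _ (Ideal.mul_mem_mul (Submodule.mem_span_singleton_self _) hn)

variable {A : Type u} {B : Type v} [CommRing A] [CommRing B] [Algebra A B]
variable {A₂ : Type w} {B₂ : Type z} [CommRing A₂] [CommRing B₂] [Algebra A₂ B₂]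

/-- Transport of the Noether different along a flat map of the enveloping algebras. -/
theorem noetherDifferent_eq_map [Algebra.EssFiniteType A B] (ι : B →+* B₂)
    (f : B ⊗[A] B →+* B₂ ⊗[A₂] B₂) (hf : f.Flat)
    (hμ : ∀ t, Algebra.TensorProduct.lmul' A₂ (f t) = ι (Algebra.TensorProduct.lmul' A t))
    (hker : ∀ s : B₂, (1 : B₂) ⊗ₜ[A₂] s - s ⊗ₜ[A₂] (1 : B₂) ∈
      Ideal.map f (RingHom.ker (Algebra.TensorProduct.lmul' (S := B) A))) :
    Disc.noetherDifferent A₂ B₂ = (Disc.noetherDifferent A B).map ι := by
  letI := f.toAlgebra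
  haveI : Module.Flat (B ⊗[A] B) (B₂ ⊗[A₂] B₂) := hf
  have hI : (RingHom.ker (Algebra.TensorProduct.lmul' (S := B) A)).FG :=
    KaehlerDifferential.ideal_fg A B
  have hk : RingHom.ker (Algebra.TensorProduct.lmul' (S := B₂) A₂) =
      Ideal.map f (RingHom.ker (Algebra.TensorProduct.lmul' (S := B) A)) := by
    refine le_antisymm ?_ ?_
    · refine (KaehlerDifferential.span_range_eq_ideal A₂ B₂).ge.trans ?_
      rw [Ideal.span_le]
      rintro _ ⟨s, rfl⟩
      exact hker s
    · rw [Ideal.map_le_iff_le_comap]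
      intro t ht
      rw [Ideal.mem_comap, RingHom.mem_ker, hμ, (RingHom.mem_ker).mp ht, map_zero]
  unfold Disc.noetherDifferent
  rw [hk, show f = algebraMap (B ⊗[A] B) (B₂ ⊗[A₂] B₂) from rfl, annihilator_map_of_flat _ hI]
  show Ideal.map (Algebra.TensorProduct.lmul' A₂).toRingHom (Ideal.map f _) =
    Ideal.map ι (Ideal.map (Algebra.TensorProduct.lmul' A).toRingHom _)
  rw [Ideal.map_map, Ideal.map_map]
  congr 1
  exact RingHom.ext hμ

theorem tmul_sub_mem {R : Type u} {S : Type v} [CommRing R] [CommRing S] [Algebra R S] (J : Ideal (S ⊗[R] S))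
    {s t : S} (hs : (1 : S) ⊗ₜ[R] s - s ⊗ₜ[R] (1 : S) ∈ J) (ht : (1 : S) ⊗ₜ[R] t - t ⊗ₜ[R] (1 : S) ∈ J) :
    (1 : S) ⊗ₜ[R] (s * t) - (s * t) ⊗ₜ[R] (1 : S) ∈ J := by
  have : (1 : S) ⊗ₜ[R] (s * t) - (s * t) ⊗ₜ[R] (1 : S) =
      ((1 : S) ⊗ₜ[R] s - s ⊗ₜ[R] (1 : S)) * ((1 : S) ⊗ₜ[R] t) +
        (s ⊗ₜ[R] (1 : S)) * ((1 : S) ⊗ₜ[R] t - t ⊗ₜ[R] (1 : S)) := by
    simp only [sub_mul, mul_sub, Algebra.TensorProduct.tmul_mul_tmul, mul_one, one_mul]
    abel
  rw [this]
  exact J.add_mem (J.mul_mem_right _ hs) (J.mul_mem_left _ ht)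

/-- Flat base change. -/
theorem noetherDifferent_baseChange {A B A' B' : Type u} [CommRing A] [CommRing B]
    [CommRing A'] [CommRing B'] [Algebra A B] [Algebra A A'] [Algebra A B'] [Algebra B B']
    [Algebra A' B'] [IsScalarTower A B B'] [IsScalarTower A A' B']
    [h : Algebra.IsPushout A B A' B'] [Algebra.FiniteType A B] [Module.Flat A A'] :
    Disc.noetherDifferent A' B' = (Disc.noetherDifferent A B).map (algebraMap B B') := by
  haveI h' : Algebra.IsPushout A A' B B' := h.symm
  let ι : B →ₐ[A] B' := IsScalarTower.toAlgHom A B B'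
  have hι : ι.toRingHom.Flat := by
    haveI : Module.Flat B B' := Module.Flat.isBaseChange A B A' B' h.out
    exact RingHom.flat_algebraMap_iff.mpr this
  let ψ : B' ⊗[A] B ≃ₐ[A'] B' ⊗[A'] B' :=
    (Algebra.TensorProduct.cancelBaseChange A A' A' B' B).symm.trans
      (Algebra.TensorProduct.congr AlgEquiv.refl (Algebra.IsPushout.equiv A A' B B'))
  have hψ : ∀ (x : B') (y : B), ψ (x ⊗ₜ y) = x ⊗ₜ algebraMap B B' y := by
    intro x y
    simp [ψ, Algebra.IsPushout.equiv_tmul]
  let f : B ⊗[A] B →+* B' ⊗[A'] B' :=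
    (ψ : B' ⊗[A] B →+* B' ⊗[A'] B').comp (Algebra.TensorProduct.map ι (AlgHom.id A B)).toRingHom
  have hfl : f.Flat :=
    RingHom.Flat.comp (RingHom.Flat.tensorProductMap hι (RingHom.Flat.id B)) (.of_bijective ψ.bijective)
  have hfv : ∀ x y : B, f (x ⊗ₜ y) = algebraMap B B' x ⊗ₜ algebraMap B B' y := fun x y => hψ _ y
  refine noetherDifferent_eq_map (algebraMap B B') f hfl (fun t => ?_) (fun s => ?_)
  · induction t using TensorProduct.induction_on with
    | zero => simp
    | tmul x y => simp [hfv]
    | add a b ha hb => simp only [map_add, ha, hb]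
  · induction s using h'.out.inductionOn with
    | zero => simp
    | tmul b =>
      show (1 : B') ⊗ₜ[A'] algebraMap B B' b - algebraMap B B' b ⊗ₜ[A'] (1 : B') ∈ _
      have := Ideal.mem_map_of_mem f
        (show (1 : B) ⊗ₜ[A] b - b ⊗ₜ[A] (1 : B) ∈ RingHom.ker (Algebra.TensorProduct.lmul' (S := B) A) by
          simp [RingHom.mem_ker])
      rwa [map_sub, hfv, hfv, map_one] at this
    | smul a x hx =>
      rw [TensorProduct.tmul_smul, ← TensorProduct.smul_tmul', ← smul_sub, Algebra.smul_def]
      exact Ideal.mul_mem_left _ _ hx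
    | add a b ha hb =>
      rw [TensorProduct.tmul_add, TensorProduct.add_tmul, add_sub_add_comm]
      exact Ideal.add_mem _ ha hb

open AlgebraicGeometry CategoryTheory in
/-- Open immersions. -/
theorem noetherDifferent_openImmersion {A B' B : Type u} [CommRing A] [CommRing B']
    [CommRing B] [Algebra A B'] [Algebra A B] [Algebra B' B] [IsScalarTower A B' B]
    [Algebra.FiniteType A B']
    (h : IsOpenImmersion (Spec.map (CommRingCat.ofHom (algebraMap B' B)))) :
    Disc.noetherDifferent A B = (Disc.noetherDifferent A B').map (algebraMap B' B) := by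
  let ι : B' →ₐ[A] B := IsScalarTower.toAlgHom A B' B
  have hι : ι.toRingHom.Flat := Flat.SpecMap_iff.mp (inferInstance : Flat (Spec.map (CommRingCat.ofHom (algebraMap B' B))))
  let f : B' ⊗[A] B' →+* B ⊗[A] B := (Algebra.TensorProduct.map ι ι).toRingHom
  refine noetherDifferent_eq_map (algebraMap B' B) f (RingHom.Flat.tensorProductMap hι hι) (fun t => ?_) (fun s => ?_)
  · induction t using TensorProduct.induction_on with
    | zero => simp
    | tmul x y => simp [f, ι]
    | add a b ha hb => simp only [map_add, ha, hb]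
  · set J := Ideal.map f (RingHom.ker (Algebra.TensorProduct.lmul' (S := B') A))
    let g₁ : B →+* (B ⊗[A] B) ⧸ J :=
      (Ideal.Quotient.mk J).comp Algebra.TensorProduct.includeLeftRingHom
    let g₂ : B →+* (B ⊗[A] B) ⧸ J :=
      (Ideal.Quotient.mk J).comp (Algebra.TensorProduct.includeRight (R := A) (A := B)).toRingHom
    have hag : CommRingCat.ofHom (algebraMap B' B) ≫ CommRingCat.ofHom g₂ =
        CommRingCat.ofHom (algebraMap B' B) ≫ CommRingCat.ofHom g₁ := by
      ext b
      show Ideal.Quotient.mk J ((1 : B) ⊗ₜ algebraMap B' B b) = Ideal.Quotient.mk J (algebraMap B' B b ⊗ₜ (1 : B))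
      rw [Ideal.Quotient.eq]
      have := Ideal.mem_map_of_mem f
        (show (1 : B') ⊗ₜ[A] b - b ⊗ₜ[A] (1 : B') ∈ RingHom.ker (Algebra.TensorProduct.lmul' (S := B') A) by
          simp [RingHom.mem_ker])
      rw [map_sub] at this
      simpa [J, f, ι] using this
    have h2 : CommRingCat.ofHom g₂ = CommRingCat.ofHom g₁ := by
      apply Spec.map_injective
      rw [← cancel_mono (Spec.map (CommRingCat.ofHom (algebraMap B' B))), ← Spec.map_comp, ← Spec.map_comp, hag]
    exact Ideal.Quotient.eq.mp (RingHom.congr_fun (congrArg CommRingCat.Hom.hom h2) s)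

end Groth.Agent.DiffLib
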