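import Mathlib
import Groth.Prelude.Def_Disc

/-!
The Noether different of a finite free algebra through the trace element of its dualizing module.
-/

set_option autoImplicit false
set_option linter.style.haveILetI false
set_option linter.unusedSectionVars false

universe u v

open TensorProduct

namespace Groth.Agent.DiffLib

variable {A : Type u} {B : Type v} [CommRing A] [CommRing B] [Algebra A B]

/-- The pairing `∑ x ⊗ y ↦ (l ↦ ∑ l(x) y)`. -/
noncomputable def ev (l : Disc.Omega A B) : B ⊗[A] B →ₗ[A] B :=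
  TensorProduct.lift ((LinearMap.lsmul A B).comp l.toLinearMap)

@[simp] theorem ev_tmul (l : Disc.Omega A B) (x y : B) : ev l (x ⊗ₜ y) = l.toLinearMap x • y := rfl

theorem ev_add (l l' : Disc.Omega A B) (ξ : B ⊗[A] B) : ev (l + l') ξ = ev l ξ + ev l' ξ := by
  induction ξ using TensorProduct.induction_on with
  | zero => simp
  | tmul x y => simp [add_smul]
  | add s t hs ht => simp only [map_add, hs, ht]; abel

theorem ev_smul (c : B) (l : Disc.Omega A B) (ξ : B ⊗[A] B) : ev (c • l) ξ = ev l ((c ⊗ₜ 1) * ξ) := by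
  induction ξ using TensorProduct.induction_on with
  | zero => simp
  | tmul x y => simp [Algebra.TensorProduct.tmul_mul_tmul]
  | add s t hs ht => simp only [map_add, mul_add, hs, ht]

theorem mul_ev (c : B) (l : Disc.Omega A B) (ξ : B ⊗[A] B) : c * ev l ξ = ev l (((1 : B) ⊗ₜ c) * ξ) := by
  induction ξ using TensorProduct.induction_on with
  | zero => simp
  | tmul x y => simp [Algebra.TensorProduct.tmul_mul_tmul, mul_smul_comm]
  | add s t hs ht => simp only [map_add, mul_add, hs, ht]

theorem mem_annihilator_iff (ξ : B ⊗[A] B) :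
    ξ ∈ Submodule.annihilator (RingHom.ker (Algebra.TensorProduct.lmul' (S := B) A)) ↔
      ∀ c : B, (c ⊗ₜ[A] (1 : B)) * ξ = ((1 : B) ⊗ₜ[A] c) * ξ := by
  have h : Ideal.span (Set.range fun s : B => (1 : B) ⊗ₜ[A] s - s ⊗ₜ[A] (1 : B)) =
      RingHom.ker (Algebra.TensorProduct.lmul' (S := B) A) := KaehlerDifferential.span_range_eq_ideal A B
  rw [← h, Ideal.span, Submodule.annihilator_span, Submodule.mem_iInf]
  simp only [Subtype.forall, Set.forall_mem_range, LinearMap.mem_ker, LinearMap.toSpanSingleton_apply, smul_eq_mul]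
  refine forall_congr' fun c => ?_
  rw [mul_comm ξ, sub_mul, sub_eq_zero]
  exact eq_comm

variable {ι : Type*} [Fintype ι] [DecidableEq ι] (b : Module.Basis ι A B)

/-- The dual basis. -/
noncomputable def coord (i : ι) : Disc.Omega A B := ⟨b.coord i⟩

/-- The functional with value one on the trace. -/
noncomputable def mkXi (Φ : Disc.Omega A B → B) : B ⊗[A] B := ∑ i, b i ⊗ₜ Φ (coord b i)

theorem eq_mkXi (ξ : B ⊗[A] B) : ξ = mkXi b fun l => ev l ξ := by
  induction ξ using TensorProduct.induction_on with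
  | zero => simp [mkXi]
  | tmul x y =>
    conv_lhs => rw [← b.sum_repr x]
    rw [TensorProduct.sum_tmul, mkXi]
    refine Finset.sum_congr rfl fun i _ => ?_
    rw [TensorProduct.smul_tmul]
    rfl
  | add s t hs ht =>
    simp only [mkXi, map_add, TensorProduct.tmul_add, Finset.sum_add_distrib] at hs ht ⊢
    rw [← hs, ← ht]

include b in
theorem ev_injective {ξ ξ' : B ⊗[A] B} (h : ∀ l : Disc.Omega A B, ev l ξ = ev l ξ') : ξ = ξ' := by
  rw [eq_mkXi b ξ, eq_mkXi b ξ']
  simp only [mkXi, h]

theorem ev_mkXi (Φ : Disc.Omega A B →ₗ[B] B) (l : Disc.Omega A B) : ev l (mkXi b Φ) = Φ l := by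
  have h : (∑ i, algebraMap A B (l.toLinearMap (b i)) • coord b i) = l := by
    refine Disc.Omega.ext (LinearMap.ext fun x => ?_)
    let π : Disc.Omega A B →+ A := AddMonoidHom.mk' (fun l => l.toLinearMap x) fun _ _ => rfl
    show π _ = _
    rw [map_sum]
    simp only [π, AddMonoidHom.mk'_apply, Disc.Omega.smul_toLinearMap_apply, coord, ← Algebra.smul_def,
      map_smul, Module.Basis.coord_apply, smul_eq_mul]
    conv_rhs => rw [← b.sum_repr x, map_sum]
    exact Finset.sum_congr rfl fun i _ => by rw [map_smul, smul_eq_mul, mul_comm]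
  conv_rhs => rw [← h, map_sum]
  simp [mkXi, map_sum, Algebra.smul_def]

theorem mkXi_mem (Φ : Disc.Omega A B →ₗ[B] B) :
    mkXi b Φ ∈ Submodule.annihilator (RingHom.ker (Algebra.TensorProduct.lmul' (S := B) A)) :=
  (mem_annihilator_iff _).mpr fun c => ev_injective b fun l => by
    rw [← ev_smul, ← mul_ev, ev_mkXi, ev_mkXi, map_smul, smul_eq_mul]

include b in
theorem existsUnique_xi (Φ : Disc.Omega A B →ₗ[B] B) :
    ∃! ξ : B ⊗[A] B, ξ ∈ Submodule.annihilator (RingHom.ker (Algebra.TensorProduct.lmul' (S := B) A)) ∧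
      ∀ l : Disc.Omega A B, Φ l = ev l ξ :=
  ⟨mkXi b Φ, ⟨mkXi_mem b Φ, fun l => (ev_mkXi b Φ l).symm⟩, fun ξ ⟨_, hξ⟩ =>
    ev_injective b fun l => by rw [ev_mkXi, hξ]⟩

theorem sum_smul_coord [Module.Finite A B] [Module.Free A B] :
    ∑ i, b i • coord b i = Disc.Omega.trace A B := by
  refine Disc.Omega.ext (LinearMap.ext fun x => ?_)
  let π : Disc.Omega A B →+ A := AddMonoidHom.mk' (fun l => l.toLinearMap x) fun _ _ => rfl
  show π _ = Algebra.trace A B x
  rw [map_sum, Algebra.trace_eq_matrix_trace b, Matrix.trace]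
  refine Finset.sum_congr rfl fun i _ => ?_
  rw [Matrix.diag_apply, Algebra.leftMulMatrix_eq_repr_mul, mul_comm x]
  rfl

theorem lmul_mkXi [Module.Finite A B] [Module.Free A B] (Φ : Disc.Omega A B →ₗ[B] B) :
    Algebra.TensorProduct.lmul' A (mkXi b Φ) = Φ (Disc.Omega.trace A B) := by
  rw [← sum_smul_coord b, map_sum, mkXi, map_sum]
  simp

include b in
theorem noetherDifferent_eq [Module.Finite A B] [Module.Free A B] :
    (Disc.noetherDifferent A B : Set B) =
      Set.range fun φ : Disc.Omega A B →ₗ[B] B => φ (Disc.Omega.trace A B) := by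
  ext x
  rw [SetLike.mem_coe, Disc.noetherDifferent,
    Ideal.mem_map_iff_of_surjective _ (fun y => ⟨y ⊗ₜ 1, by simp⟩)]
  constructor
  · rintro ⟨ξ, hξ, rfl⟩
    let Φ : Disc.Omega A B →ₗ[B] B :=
      { toFun := fun l => ev l ξ
        map_add' := fun l l' => ev_add l l' ξ
        map_smul' := fun c l => by
          rw [ev_smul, (mem_annihilator_iff ξ).mp hξ c, ← mul_ev]; rfl }
    exact ⟨Φ, by show Φ _ = _; rw [← lmul_mkXi b Φ, show mkXi b Φ = ξ from (eq_mkXi b ξ).symm]⟩
  · rintro ⟨Φ, rfl⟩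
    exact ⟨mkXi b Φ, mkXi_mem b Φ, lmul_mkXi b Φ⟩

section invertible

variable [Module.Invertible B (Disc.Omega A B)]

theorem apply_smul_comm (Φ : Disc.Omega A B →ₗ[B] B) (l l' : Disc.Omega A B) : Φ l • l' = Φ l' • l := by
  have h := congrArg (TensorProduct.lift ((LinearMap.lsmul B (Disc.Omega A B)).comp Φ))
    (Module.Invertible.tmul_comm (R := B) (m₁ := l) (m₂ := l'))
  simpa using h

include b in
theorem differentSet_eq [Module.Finite A B] [Module.Free A B] :
    Disc.differentSet A B = (Disc.noetherDifferent A B : Set B) := by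
  rw [noetherDifferent_eq b]
  ext x
  constructor
  · intro hx
    let T : B →ₗ[B] Disc.Omega A B := LinearMap.toSpanSingleton B _ (Disc.Omega.trace A B)
    have hmem : ∀ l : Disc.Omega A B, x • l ∈ LinearMap.range T := fun l => by
      obtain ⟨c, hc⟩ := hx l.toLinearMap
      exact ⟨c, Disc.Omega.ext (LinearMap.ext fun y => (hc y).symm)⟩
    obtain ⟨Φ, hΦ⟩ := Module.projective_lifting_property T.rangeRestrict
      ((x • LinearMap.id : Disc.Omega A B →ₗ[B] _).codRestrict _ hmem) T.surjective_rangeRestrict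
    have hΦ' : ∀ l, Φ l • Disc.Omega.trace A B = x • l := fun l => congrArg Subtype.val (LinearMap.congr_fun hΦ l)
    refine ⟨Φ, (Module.Invertible.toModuleEnd_bijective (R := B) (M := Disc.Omega A B)).injective
      (LinearMap.ext fun l => ?_)⟩
    show Φ (Disc.Omega.trace A B) • l = x • l
    rw [apply_smul_comm, hΦ']
  · rintro ⟨Φ, rfl⟩ φ
    refine ⟨Φ ⟨φ⟩, fun y => ?_⟩
    exact congrArg (fun m : Disc.Omega A B => m.toLinearMap y) (apply_smul_comm Φ (Disc.Omega.trace A B) ⟨φ⟩)

end invertible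

end Groth.Agent.DiffLib
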