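import Mathlib
import Groth.Agent.DiffLib.Basic

/-!
Norms of elements of the different of a finite free algebra with invertible dualizing module.
-/

set_option autoImplicit false
set_option linter.style.haveILetI false
set_option linter.unusedSectionVars false

universe u v

open TensorProduct

namespace Groth.Agent.DiffLib

variable {A : Type u} {B : Type v} [CommRing A] [CommRing B] [Algebra A B]
variable {ι : Type*} [Fintype ι] [DecidableEq ι] (b : Module.Basis ι A B)

/-- The Gram matrix of a functional. -/
noncomputable def gram (e : Disc.Omega A B) : Matrix ι ι A := Matrix.of fun i j => e.toLinearMap (b i * b j)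

theorem det_gram_smul (x : B) (e : Disc.Omega A B) :
    (gram b (x • e)).det = Algebra.norm A x * (gram b e).det := by
  have h : gram b (x • e) = (Algebra.leftMulMatrix b x).transpose * gram b e := by
    ext i j
    rw [Matrix.mul_apply]
    simp only [gram, Matrix.of_apply, Matrix.transpose_apply, Algebra.leftMulMatrix_eq_repr_mul,
      Disc.Omega.smul_toLinearMap_apply]
    rw [← mul_assoc]
    conv_lhs => rw [← b.sum_repr (x * b i), Finset.sum_mul, map_sum]
    refine Finset.sum_congr rfl fun k _ => ?_
    rw [smul_mul_assoc, map_smul, smul_eq_mul]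
  rw [h, Matrix.det_mul, Matrix.det_transpose, Algebra.norm_eq_matrix_det b]

theorem discr_eq_det_gram [Module.Finite A B] [Module.Free A B] :
    Algebra.discr A b = (gram b (Disc.Omega.trace A B)).det := rfl

section invertible

variable [Module.Invertible B (Disc.Omega A B)] [Module.Finite A B] [Module.Free A B]

/-- Modulo every maximal ideal of `A` some functional has a nondegenerate Gram matrix. -/
theorem exists_det_gram_notMem (m : Ideal A) [hm : m.IsMaximal] :
    ∃ e : Disc.Omega A B, (gram b e).det ∉ m := by
  classical
  letI : Field (A ⧸ m) := Ideal.Quotient.field m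
  set J : Ideal B := m.map (algebraMap A B) with hJ
  haveI : Module.Finite (A ⧸ m) (B ⧸ J) := Module.Finite.of_restrictScalars_finite A (A ⧸ m) (B ⧸ J)
  haveI : IsArtinianRing (B ⧸ J) := IsArtinianRing.of_finite (A ⧸ m) (B ⧸ J)
  haveI : Module.Free (B ⧸ J) ((B ⧸ J) ⊗[B] Disc.Omega A B) := inferInstance
  obtain ⟨f⟩ := Module.Invertible.free_iff_linearEquiv.mp this
  obtain ⟨e, he⟩ := TensorProduct.mk_surjective B (Disc.Omega A B) (B ⧸ J) Ideal.Quotient.mk_surjective (f.symm 1)
  refine ⟨e, fun hdet => ?_⟩
  have hgen : ∀ l : Disc.Omega A B, ∃ c : B, l - c • e ∈ J • (⊤ : Submodule B (Disc.Omega A B)) := by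
    intro l
    obtain ⟨c, hc⟩ := Ideal.Quotient.mk_surjective (f ((1 : B ⧸ J) ⊗ₜ l))
    refine ⟨c, (Submodule.Quotient.eq _).mp ?_⟩
    apply (TensorProduct.quotTensorEquivQuotSMul (Disc.Omega A B) J).symm.injective
    simp only [TensorProduct.quotTensorEquivQuotSMul_symm_mk]
    apply f.injective
    have he' : (1 : B ⧸ J) ⊗ₜ[B] e = f.symm 1 := he
    rw [← hc, TensorProduct.tmul_smul, he', ← algebraMap_smul (B ⧸ J) c (f.symm 1), map_smul,
      LinearEquiv.apply_symm_apply, smul_eq_mul, mul_one]
    rfl
  have hval : ∀ l ∈ J • (⊤ : Submodule B (Disc.Omega A B)), ∀ x : B, l.toLinearMap x ∈ m := by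
    intro l hl
    refine Submodule.smul_induction_on hl (fun y hy k _ x => ?_) (fun p q hp hq x => ?_)
    · rw [Disc.Omega.smul_toLinearMap_apply]
      induction hy using Submodule.span_induction generalizing x with
      | mem y hy =>
        obtain ⟨a, ha, rfl⟩ := hy
        rw [← Algebra.smul_def, map_smul, smul_eq_mul]
        exact m.mul_mem_right _ ha
      | zero => simp
      | add y y' _ _ h h' =>
        rw [add_mul, map_add]
        exact m.add_mem (h x) (h' x)
      | smul r y _ h =>
        rw [smul_eq_mul, mul_comm r y, mul_assoc]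
        exact h (r * x)
    · rw [Disc.Omega.add_toLinearMap, LinearMap.add_apply]
      exact m.add_mem (hp x) (hq x)
  choose c hc using fun i => hgen (coord b i)
  let C : Matrix ι ι A := Matrix.of fun i j => b.repr (c i) j
  have h1 : (C * gram b e).map (Ideal.Quotient.mk m) = 1 := by
    ext i j
    have h2 := hval _ (hc i) (b j)
    let π : Disc.Omega A B →+ A := AddMonoidHom.mk' (fun l => l.toLinearMap (b j)) fun _ _ => rfl
    change π (coord b i - c i • e) ∈ m at h2
    rw [map_sub, ← Ideal.Quotient.eq] at h2
    have h3 : (C * gram b e) i j = π (c i • e) := by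
      rw [Matrix.mul_apply]
      show _ = e.toLinearMap (c i * b j)
      conv_rhs => rw [← b.sum_repr (c i), Finset.sum_mul, map_sum]
      refine Finset.sum_congr rfl fun k _ => ?_
      rw [smul_mul_assoc, map_smul, smul_eq_mul]
      rfl
    rw [Matrix.map_apply, h3, ← h2]
    show Ideal.Quotient.mk m (b.coord i (b j)) = _
    rw [Module.Basis.coord_apply, Module.Basis.repr_self, Matrix.one_apply, Finsupp.single_apply]
    by_cases hij : i = j <;> simp [hij, Ne.symm]
  have h4 : Ideal.Quotient.mk m ((C * gram b e).det) = 1 := by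
    rw [RingHom.map_det]
    exact (congrArg Matrix.det h1).trans Matrix.det_one
  rw [Matrix.det_mul, map_mul, Ideal.Quotient.eq_zero_iff_mem.mpr hdet, mul_zero] at h4
  exact zero_ne_one h4

include b in
theorem span_norm_differentSet :
    Ideal.span (Algebra.norm A '' Disc.differentSet A B) = Ideal.span {Algebra.discr A b} := by
  classical
  rw [differentSet_eq b, noetherDifferent_eq b]
  have key : ∀ (Φ : Disc.Omega A B →ₗ[B] B) (l : Disc.Omega A B),
      Algebra.norm A (Φ (Disc.Omega.trace A B)) * (gram b l).det =
        Algebra.norm A (Φ l) * Algebra.discr A b := by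
    intro Φ l
    rw [discr_eq_det_gram b, ← det_gram_smul, ← det_gram_smul, apply_smul_comm]
  apply le_antisymm
  · rw [Ideal.span_le]
    rintro _ ⟨_, ⟨Φ, rfl⟩, rfl⟩
    set a := Algebra.norm A (Φ (Disc.Omega.trace A B))
    by_contra hx
    obtain ⟨m, hm, hle⟩ := Ideal.exists_le_maximal
      ((Ideal.span {Algebra.discr A b}).colon {a}) (fun h => hx (by
        have h1 : (1 : A) ∈ (Ideal.span {Algebra.discr A b}).colon {a} := h ▸ Submodule.mem_top
        simpa [Submodule.mem_colon_singleton] using h1))
    obtain ⟨e, he⟩ := exists_det_gram_notMem b m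
    refine he (hle ?_)
    rw [Submodule.mem_colon_singleton, smul_eq_mul, mul_comm, key]
    exact Ideal.mul_mem_left _ _ (Ideal.mem_span_singleton_self _)
  · rw [Ideal.span_singleton_le_iff_mem]
    set I := Ideal.span (Algebra.norm A '' Set.range fun φ : Disc.Omega A B →ₗ[B] B =>
      φ (Disc.Omega.trace A B))
    by_contra hx
    obtain ⟨m, hm, hle⟩ := Ideal.exists_le_maximal (I.colon {Algebra.discr A b}) (fun h => hx (by
      have h1 : (1 : A) ∈ I.colon {Algebra.discr A b} := h ▸ Submodule.mem_top
      simpa [Submodule.mem_colon_singleton] using h1))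
    obtain ⟨e, he⟩ := exists_det_gram_notMem b m
    set G := gram b e with hG
    set g := G.det with hg
    let ψ : Disc.Omega A B → B := fun l =>
      ∑ i, (Matrix.mulVec G.adjugate (fun j => l.toLinearMap (b j))) i • b i
    have hψ : ∀ l, ψ l • e = (algebraMap A B g) • l := by
      intro l
      refine Disc.Omega.ext (b.ext fun j => ?_)
      rw [Disc.Omega.smul_toLinearMap_apply, Disc.Omega.smul_toLinearMap_apply, ← Algebra.smul_def,
        map_smul]
      simp only [ψ, Finset.sum_mul, map_sum, smul_mul_assoc, map_smul, smul_eq_mul]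
      have h5 : Matrix.vecMul (Matrix.mulVec G.adjugate (fun j => l.toLinearMap (b j))) G =
          g • (fun j => l.toLinearMap (b j)) := by
        have hsymm : G.transpose = G := by
          ext i j
          simp [hG, gram, mul_comm]
        rw [← hsymm, Matrix.vecMul_transpose, hsymm, Matrix.mulVec_mulVec, Matrix.mul_adjugate,
          Matrix.smul_mulVec, Matrix.one_mulVec]
      exact congrFun h5 j
    have hker : ∀ x : B, x • e = 0 → algebraMap A B g * x = 0 := by
      intro x hx0
      have h6 : Matrix.mulVec G (fun i => b.repr x i) = 0 := by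
        ext j
        have := congrArg (fun k : Disc.Omega A B => k.toLinearMap (b j)) hx0
        rw [Disc.Omega.smul_toLinearMap_apply] at this
        conv_lhs at this => rw [← b.sum_repr x, Finset.sum_mul, map_sum]
        rw [Pi.zero_apply, ← (by simpa using this : _ = (0 : A))]
        simp [Matrix.mulVec, dotProduct, hG, gram, mul_comm]
      have h7 := congrArg (Matrix.mulVec G.adjugate) h6
      rw [Matrix.mulVec_mulVec, Matrix.adjugate_mul, Matrix.smul_mulVec, Matrix.one_mulVec,
        Matrix.mulVec_zero] at h7
      apply b.repr.injective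
      ext i
      rw [← Algebra.smul_def, map_smul, map_zero]
      exact congrFun h7 i
    have hcancel : ∀ x y : B, x • e = y • e → algebraMap A B g * x = algebraMap A B g * y := by
      intro x y hxy
      rw [← sub_eq_zero, ← mul_sub]
      exact hker _ (by rw [sub_smul, hxy, sub_self])
    let Φ : Disc.Omega A B →ₗ[B] B :=
      { toFun := fun l => algebraMap A B g * ψ l
        map_add' := fun l l' => by
          rw [← mul_add]
          exact hcancel _ _ (by rw [add_smul, hψ, hψ, hψ, smul_add])
        map_smul' := fun y l => by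
          rw [RingHom.id_apply, smul_eq_mul, mul_left_comm]
          exact hcancel _ _ (by rw [hψ, mul_smul y (ψ l) e, hψ, smul_comm]) }
    have hΦe : Φ e = algebraMap A B (g * g) := by
      show algebraMap A B g * ψ e = _
      rw [map_mul]
      exact hcancel _ _ (by rw [hψ])
    have h8 := key Φ e
    rw [hΦe, Algebra.norm_algebraMap_of_basis b, ← hg] at h8
    refine he (hm.isPrime.mem_of_pow_mem (2 * Fintype.card ι) (hle ?_))
    rw [Submodule.mem_colon_singleton, smul_eq_mul, pow_mul, sq, ← h8]
    exact Ideal.mul_mem_right _ _ (Ideal.subset_span ⟨_, ⟨Φ, rfl⟩, rfl⟩)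

end invertible

end Groth.Agent.DiffLib
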